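import Groth.Agent.S10350
import Groth.Agent.S10397
import Groth.Agent.S2081
import Groth.Agent.FEtCat.Ordered
import Groth.Agent.FEtCat.Sigma
import Groth.Agent.SchCover.Build
import Groth.Agent.AlgSp.GenFiniteSch
import Groth.Agent.AlgSpB.Art.GenericScheme
import Groth.Agent.AlgSpB.SchStage.Main
import Groth.Agent.AlgSpEN.Induction

/-!
# Integral scheme covers which are finite étale over a dense open
-/

universe u

open CategoryTheory CategoryTheory.Limits AlgebraicGeometry Opposite TopologicalSpace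

set_option backward.isDefEq.respectTransparency false
set_option backward.isDefEq.respectTransparency.types false
set_option autoImplicit false

noncomputable section

namespace Groth.Agent.AlgSpB.GenEtCover

open _root_.AlgSp Groth.Agent.AlgSp

/-- A dense open of a quasi-separated scheme with finitely many components contains a dense affine open. -/
theorem exists_affine_dense (U : Scheme.{u}) [QuasiSeparatedSpace ↥U]
    (hfin : (irreducibleComponents (U : Type u)).Finite) (O : U.Opens) (hO : Dense (O : Set ↥U)) :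
    ∃ W : U.Opens, IsAffineOpen W ∧ W ≤ O ∧ Dense (W : Set ↥U) := by
  have : QuasiSeparatedSpace ↥O.toScheme := O.ι.isOpenEmbedding.quasiSeparatedSpace
  let F : Set ↥O.toScheme := O.ι ⁻¹' {v | closure {v} ∈ irreducibleComponents (U : Type u)}
  have hF : F.Finite := (finite_generic_of_irreducibleComponents hfin).preimage O.ι.isOpenEmbedding.injective.injOn
  obtain ⟨V, hV, hFV⟩ := Art.exists_affine_of_generic O.toScheme F hF (fun x hx z hz => by
    apply O.ι.isOpenEmbedding.injective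
    have h1 := hz.map O.ι.continuous
    exact (h1.antisymm ((Groth.Agent.FlatMor.GenericPts.closure_mem_irreducibleComponents_iff _).1 hx _ h1)).eq)
  refine ⟨O.ι ''ᵁ V, hV.image_of_isOpenImmersion O.ι, O.ι_image_le V, fun x => ?_⟩
  obtain ⟨η, hη, hηx⟩ := Groth.Agent.FlatMor.GenericPts.exists_generic_specializes x
  have hηO : η ∈ O := generic_mem_of_dense O hO hη hfin
  exact closure_mono (Set.singleton_subset_iff.2 (show η ∈ ((O.ι ''ᵁ V : U.Opens) : Set ↥U) from
    ⟨⟨η, hηO⟩, hFV (show (⟨η, hηO⟩ : ↥O.toScheme) ∈ F from hη), rfl⟩)) (specializes_iff_mem_closure.1 hηx)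

/-- The pieces of a coproduct of schemes are closed. -/
theorem isClosed_range_ι {α : Type u} (P : α → Scheme.{u}) (k : α) :
    IsClosed (Set.range (Limits.Sigma.ι P k)) := by
  rw [← isOpen_compl_iff]
  have : (Set.range (Limits.Sigma.ι P k))ᶜ = ⋃ j : {j // j ≠ k}, Set.range (Limits.Sigma.ι P j.1) := by
    ext x
    obtain ⟨⟨a, y⟩, rfl⟩ := (sigmaMk P).surjective x
    constructor
    · intro h
      refine Set.mem_iUnion.2 ⟨⟨a, fun e => h ?_⟩, y, (sigmaMk_mk P a y).symm⟩
      subst e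
      exact ⟨y, (sigmaMk_mk P a y).symm⟩
    · rintro h ⟨y', hy'⟩
      obtain ⟨⟨j, hj⟩, y'', hy''⟩ := Set.mem_iUnion.1 h
      rw [← sigmaMk_mk] at hy' hy''
      exact hj ((congrArg Sigma.fst ((sigmaMk P).injective hy'')).trans
        (congrArg Sigma.fst ((sigmaMk P).injective hy')).symm)
  rw [this]
  exact isOpen_iUnion fun j => (Limits.Sigma.ι P j.1).isOpenEmbedding.isOpen_range

open Groth.Agent.FEtCat in
set_option maxHeartbeats 1000000 in
/-- Finite étale covers of affine schemes are split by finite étale surjective covers. -/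
theorem exists_split {W E : Scheme.{u}} [IsAffine W] (e : E ⟶ W) [IsFinite e] [Etale e] :
    ∃ (T : Scheme.{u}) (τ : T ⟶ W), IsFinite τ ∧ Etale τ ∧ Surjective τ ∧
      ∀ (D : Scheme.{u}) (dE : D ⟶ E) (dT : D ⟶ T), dE ≫ e = dT ≫ τ → ∀ z : ↥D,
        ∃ N : D.Opens, IsClosed (N : Set ↥D) ∧ z ∈ N ∧ ∀ (W' : Scheme.{u}) (a b : W' ⟶ N.toScheme),
          a ≫ N.ι ≫ dT = b ≫ N.ι ≫ dT → a ≫ N.ι ≫ dE = b ≫ N.ι ≫ dE := by
  classical
  have hloc : IsLocallyConstant (Scheme.Hom.finrank e) := Scheme.Hom.isLocallyConstant_finrank e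
  have hfr : (Set.range (Scheme.Hom.finrank e)).Finite := hloc.range_finite
  let α : Type u := ULift.{u} (Set.range (Scheme.Hom.finrank e))
  have : Finite ↥(Set.range (Scheme.Hom.finrank e)) := hfr.to_subtype
  have : Finite α := inferInstanceAs (Finite (ULift.{u} ↥(Set.range (Scheme.Hom.finrank e))))
  let L : α → W.Opens := fun k => ⟨{x | Scheme.Hom.finrank e x = k.down.1}, hloc {k.down.1}⟩
  let UL : ∀ k, FEt.Cat (L k : Scheme.{u}) := fun k => Basic.mk (pullback.snd e (L k).ι)
  have hn : ∀ k, ∀ x : (L k : Scheme.{u}), Scheme.Hom.finrank (UL k).hom x = k.down.1 := fun k x =>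
    (Scheme.Hom.finrank_pullback_snd e (L k).ι x).trans x.2
  let P : α → Scheme.{u} := fun k => (Ordered.cover (UL k) k.down.1).left
  let π : ∀ k, P k ⟶ W := fun k => (Ordered.cover (UL k) k.down.1).hom ≫ (L k).ι
  have hL : ∀ k, IsClosedImmersion (L k).ι := fun k => by
    refine IsClosedImmersion.of_isPreimmersion _ ?_
    rw [Scheme.Opens.range_ι]
    exact (hloc.isClopen_fiber _).1
  have hπf : ∀ k, IsFinite (π k) := fun k => have := hL k; inferInstanceAs (IsFinite (_ ≫ (L k).ι))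
  have hπe : ∀ k, Etale (π k) := fun k => inferInstanceAs (Etale (_ ≫ (L k).ι))
  let τ : (∐ P) ⟶ W := Limits.Sigma.desc π
  refine ⟨∐ P, τ, SGA1Quot.isFinite_sigmaDesc α P π hπf, IsZariskiLocalAtSource.sigmaDesc (P := @Etale) hπe,
    ⟨fun x => ?_⟩, fun D dE dT hd z => ?_⟩
  · let k : α := ⟨⟨Scheme.Hom.finrank e x, x, rfl⟩⟩
    have := Ordered.surjective_cover (UL k) k.down.1 (hn k)
    obtain ⟨p, hp⟩ := (Ordered.cover (UL k) k.down.1).hom.surjective ⟨x, rfl⟩
    refine ⟨Limits.Sigma.ι P k p, ?_⟩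
    rw [← Scheme.Hom.comp_apply, Limits.Sigma.ι_desc, Scheme.Hom.comp_apply]
    exact congrArg (L k).ι hp
  · obtain ⟨⟨k, y⟩, hy⟩ := (sigmaMk P).surjective (dT z)
    rw [sigmaMk_mk] at hy
    let N₁ := dT ⁻¹ᵁ (Limits.Sigma.ι P k).opensRange
    have hN₁ : IsClosed (N₁ : Set ↥D) := (isClosed_range_ι P k).preimage dT.continuous
    have hz₁ : z ∈ N₁ := ⟨y, hy⟩
    let r : N₁.toScheme ⟶ P k := IsOpenImmersion.lift (Limits.Sigma.ι P k) (N₁.ι ≫ dT) (by
      rintro _ ⟨w, rfl⟩
      exact w.2)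
    have hr : r ≫ Limits.Sigma.ι P k = N₁.ι ≫ dT := IsOpenImmersion.lift_fac _ _ _
    let h₀ : N₁.toScheme ⟶ (UL k).left := pullback.lift (N₁.ι ≫ dE) (r ≫ (Ordered.cover (UL k) k.down.1).hom) (by
      rw [Category.assoc, Category.assoc, hd, ← reassoc_of% hr, Limits.Sigma.ι_desc])
    obtain ⟨ε, hε⟩ := Ordered.exists_split (UL k) k.down.1 (hn k)
    let h : N₁.toScheme ⟶ pullback (UL k).hom (Ordered.cover (UL k) k.down.1).hom :=
      pullback.lift h₀ r (pullback.lift_snd _ _ _)
    let ι' := Limits.Sigma.ι (fun _ : ULift.{u} (Fin k.down.1) => P k)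
    let q := h ≫ ε.hom
    obtain ⟨i, w, hw⟩ := Sigma.exists_range_ι (q ⟨z, hz₁⟩)
    let N₂ := q ⁻¹ᵁ (ι' i).opensRange
    have hN₂ : IsClosed (N₂ : Set ↥N₁.toScheme) := (isClosed_range_ι _ i).preimage q.continuous
    let N := N₁.ι ''ᵁ N₂
    let κ : N.toScheme ⟶ N₁.toScheme := D.homOfLE (N₁.ι_image_le N₂)
    have hκ : κ ≫ N₁.ι = N.ι := D.homOfLE_ι _
    refine ⟨N, ?_, ⟨⟨z, hz₁⟩, ⟨w, hw⟩, rfl⟩, fun W' a b hab => ?_⟩
    · have hc : Topology.IsClosedEmbedding N₁.ι :=
        ⟨N₁.ι.isOpenEmbedding.toIsEmbedding, by rw [Scheme.Opens.range_ι]; exact hN₁⟩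
      exact hc.isClosedMap _ hN₂
    have hκr : Set.range (κ ≫ q) ⊆ Set.range (ι' i) := by
      rintro _ ⟨x, rfl⟩
      obtain ⟨x₁, hx₁, hxe⟩ := x.2
      have : κ x = x₁ := N₁.ι.isOpenEmbedding.injective (by
        rw [← Scheme.Hom.comp_apply, hκ]; exact hxe.symm)
      rw [Scheme.Hom.comp_apply, this]
      exact hx₁
    let l := IsOpenImmersion.lift (ι' i) (κ ≫ q) hκr
    have hl : l ≫ ι' i = κ ≫ q := IsOpenImmersion.lift_fac _ _ _
    have hl' : κ ≫ h = l ≫ ι' i ≫ ε.inv := by
      rw [reassoc_of% hl]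
      simp [q]
    have hlr : l = κ ≫ r := by
      have := congrArg (· ≫ pullback.snd _ _) hl'
      simp only [h, ι', Category.assoc, pullback.lift_snd] at this
      rw [hε i, Category.comp_id] at this
      exact this.symm
    have key : κ ≫ h₀ = (κ ≫ r) ≫ ι' i ≫ ε.inv ≫ pullback.fst _ _ := by
      rw [← hlr]
      have := congrArg (· ≫ pullback.fst _ _) hl'
      simpa only [h, Category.assoc, pullback.lift_fst] using this
    have hT : ∀ c : W' ⟶ N.toScheme, c ≫ N.ι ≫ dT = (c ≫ κ ≫ r) ≫ Limits.Sigma.ι P k := fun c => by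
      rw [Category.assoc, Category.assoc, hr, reassoc_of% hκ]
    have hE : ∀ c : W' ⟶ N.toScheme,
        c ≫ N.ι ≫ dE = (c ≫ κ ≫ r) ≫ ι' i ≫ ε.inv ≫ pullback.fst _ _ ≫ pullback.fst e (L k).ι := fun c => by
      have := congrArg (fun m => c ≫ m ≫ pullback.fst e (L k).ι) key
      simp only [h₀, Category.assoc, pullback.lift_fst] at this
      rw [reassoc_of% hκ] at this
      simpa only [Category.assoc] using this
    rw [hT, hT, cancel_mono] at hab
    rw [hE, hE, hab]

variable {S : Scheme.{u}}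

theorem dense_ofPt_comp {X : Space S} {U W : Over S} (j : (yon S).obj U ⟶ X.obj)
    (hj : Dense (Set.range (Points.ofPt j))) (ι : W ⟶ U) (hι : Dense (Set.range ι.left)) :
    Dense (Set.range (Points.ofPt ((yon S).map ι ≫ j))) := by
  have e : Set.range (Points.ofPt ((yon S).map ι ≫ j)) = Points.ofPt j '' Set.range ι.left := by
    rw [← Set.range_comp]
    exact congrArg Set.range (funext fun w => ofPt_map_comp ι j w)
  rw [e]
  exact DenseRange.dense_image hj (Points.continuous_ofPt j) hι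

variable [QuasiSeparatedSpace ↥S]

/-- A dense affine open subscheme over which an affine étale chart is finite. -/
theorem exists_finite_locus (X : Space S) (hqs : IsQuasiSeparatedSp X.obj)
    (hirr : (irreducibleComponents (Points X.obj)).Finite) {V : Over S} [IsAffine V.left]
    (r : (yon S).obj V ⟶ X.obj) (hr : RepWith @Etale r) :
    ∃ (W : Over S) (j : (yon S).obj W ⟶ X.obj), IsAffine W.left ∧ RepWith @IsOpenImmersion j ∧
      Dense (Set.range (Points.ofPt j)) ∧
      ∃ (E : Over S) (π₁ : E ⟶ V) (π₂ : E ⟶ W), IsPullback ((yon S).map π₁) ((yon S).map π₂) r j ∧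
        IsFinite π₂.left ∧ Etale π₂.left := by
  obtain ⟨X', j', hj', hd', hfin', -⟩ := (Groth.Agent.S10397.result X).1 ⟨Groth.Agent.S10350.result X hqs, hirr⟩
  have hqs' : QuasiSeparatedSpace ↥X'.left := SchStage.quasiSeparatedSpace_left X'
    (Groth.Agent.AlgSpEN.isQuasiSeparatedSp_of_openImmersion (W := ⟨(yon S).obj X', IsAlgSpace.yon_obj X'⟩)
      (ObjectProperty.homMk j') hj' hqs)
  obtain ⟨A, hA, -, hAd⟩ := exists_affine_dense X'.left hfin' ⊤ (by simp)
  let W₀ : Over S := Over.mk (A.ι ≫ X'.hom)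
  have : IsAffine W₀.left := hA
  let ι₀ : W₀ ⟶ X' := Over.homMk A.ι rfl
  let j₀ : (yon S).obj W₀ ⟶ X.obj := (yon S).map ι₀ ≫ j'
  have hj₀ : RepWith @IsOpenImmersion j₀ := (repWith_isMultiplicative (S := S) @IsOpenImmersion).comp_mem _ _
    ((repWith_yon_map_iff _ ι₀).2 (inferInstanceAs (IsOpenImmersion A.ι))) hj'
  have hd₀ : Dense (Set.range (Points.ofPt j₀)) := dense_ofPt_comp j' hd' ι₀ (by
    rwa [show Set.range ι₀.left = (A : Set ↥X'.left) from Scheme.Opens.range_ι A])
  have hfin₀ : (irreducibleComponents (W₀.left : Type u)).Finite :=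
    finite_irreducibleComponents_of_generic <| by
      refine ((finite_generic_of_irreducibleComponents hfin').preimage A.ι.isOpenEmbedding.injective.injOn).subset ?_
      exact fun w hw => (generic_open_iff A.ι w).1 hw
  obtain ⟨E, π₁, π₂, sq⟩ := exists_pullback_yon hr.1 j₀
  have : Etale π₂.left := hr.2 _ _ _ sq
  have : IsOpenImmersion π₁.left := hj₀.2 _ _ _ sq.flip
  have : E.left.IsSeparated := ⟨by
    rw [← terminal.comp_from π₁.left]
    infer_instance⟩
  have : IsSeparated π₂.left := by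
    have : IsSeparated (π₂.left ≫ terminal.from W₀.left) := by rw [terminal.comp_from]; infer_instance
    exact IsSeparated.of_comp π₂.left (terminal.from _)
  have : QuasiCompact π₂.left := (repWith_yon_map_iff _ π₂).1
    (MorphismProperty.of_isPullback sq ((repWith_quasiCompact_iff X.property r hr.1).2
      (isQuasiCompactMor_of_quasiCompactSp (IsAlgSpace.yon_obj V) X.property r (isQuasiCompactSp_yon V) hqs)))
  have := locallyQuasiFinite_of_etale π₂.left
  have hgen : ∀ x : E.left, closure {x} ∈ irreducibleComponents (E.left : Type u) ↔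
      closure {π₂.left x} ∈ irreducibleComponents (W₀.left : Type u) := fun x => by
    rw [← stalkDim_zero_iff, ← stalkDim_zero_iff, Groth.Agent.AlgSpD.ringKrullDim_stalk_eq π₂.left x]
  have hfinE : (irreducibleComponents (E.left : Type u)).Finite := by
    apply finite_irreducibleComponents_of_generic
    refine ((finite_generic_of_irreducibleComponents hfin₀).biUnion
      fun v _ => π₂.left.finite_preimage_singleton v).subset fun x hx => ?_
    exact Set.mem_iUnion₂.2 ⟨π₂.left x, (hgen x).1 hx, rfl⟩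
  obtain ⟨O, hO, hOf⟩ := Groth.Agent.S2081.result π₂.left hfinE hfin₀ hgen
  obtain ⟨B, hB, hBO, hBd⟩ := exists_affine_dense W₀.left hfin₀ O hO
  let W : Over S := Over.mk (B.ι ≫ W₀.hom)
  let ι : W ⟶ W₀ := Over.homMk B.ι rfl
  have hj : RepWith @IsOpenImmersion ((yon S).map ι ≫ j₀) :=
    (repWith_isMultiplicative (S := S) @IsOpenImmersion).comp_mem _ _
      ((repWith_yon_map_iff _ ι).2 (inferInstanceAs (IsOpenImmersion B.ι))) hj₀
  obtain ⟨E', p, q, sq'⟩ := exists_pullback_yon hr.1 ((yon S).map ι ≫ j₀)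
  refine ⟨W, _, hB, hj, dense_ofPt_comp j₀ hd₀ ι (by
    rwa [show Set.range ι.left = (B : Set ↥W₀.left) from Scheme.Opens.range_ι B]), E', p, q, sq', ?_,
    hr.2 _ _ _ sq'⟩
  obtain ⟨i, hi1, hi2⟩ : ∃ i : E' ⟶ E, i ≫ π₁ = p ∧ i ≫ π₂ = q ≫ ι := by
    obtain ⟨i, hi⟩ := (yon S).map_surjective (sq.lift ((yon S).map p) ((yon S).map (q ≫ ι))
      (by rw [Functor.map_comp, Category.assoc]; exact sq'.w))
    exact ⟨i, (yon S).map_injective (by rw [Functor.map_comp, hi, sq.lift_fst]),
      (yon S).map_injective (by rw [Functor.map_comp, hi, sq.lift_snd])⟩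
  have hs : IsPullback ((yon S).map i) ((yon S).map q) ((yon S).map π₂) ((yon S).map ι) :=
    IsPullback.of_right (by rw [← Functor.map_comp, hi1]; exact sq')
      (by rw [← Functor.map_comp, ← Functor.map_comp, hi2]) sq
  exact isFinite_of_restrict_le π₂.left B q.left i.left O hBO hOf
    ((IsPullback.of_map (yon S) ((yon S).map_injective (by rw [Functor.map_comp, Functor.map_comp, hs.w])) hs).map
      (Over.forget S))

set_option maxHeartbeats 1000000 in
/-- An integral scheme cover, finite étale over a dense affine open, with local lifts to a chart. -/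
theorem exists_cover (X : Space S) (hqc : IsQuasiCompactSp X.obj) (hqs : IsQuasiSeparatedSp X.obj)
    (hirr : (irreducibleComponents (Points X.obj)).Finite) {U : Over S} (b : (yon S).obj U ⟶ X.obj)
    (hb : RepWith @Etale b) (hbs : RepWith @Surjective b) :
    ∃ (Y : Over S) (g : (yon S).obj Y ⟶ X.obj) (W : Over S) (j : (yon S).obj W ⟶ X.obj),
      RepWith @IsIntegralHom g ∧ RepWith @Surjective g ∧ RepWith @IsOpenImmersion j ∧ IsAffine W.left ∧
      Dense (Set.range (Points.ofPt j)) ∧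
      (∀ (P : Sp S) (fst : P ⟶ (yon S).obj Y) (snd : P ⟶ (yon S).obj W), IsPullback fst snd g j →
        RepWith @IsFinite snd ∧ RepWith @Etale snd) ∧
      ∀ y : ↥Y.left, ∃ W' : Y.left.Opens, y ∈ W' ∧ SchStage.HasLift b g W' := by
  have := Groth.Agent.AlgSp.compactSpace_points hqc
  obtain ⟨V, e₀, hV, hr, hrs⟩ := exists_affine_chart_of_compactSpace hb hbs
  let r := (yon S).map e₀ ≫ b
  obtain ⟨W, j, hW, hj, hjd, E, π₁, π₂, sqE, hπf, hπe⟩ := exists_finite_locus X hqs hirr r hr
  obtain ⟨T₀, τ₀, hτf, hτe, hτs, hsp⟩ := exists_split π₂.left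
  have : IsAffine T₀ := isAffine_of_isAffineHom τ₀
  let T : Over S := Over.mk (τ₀ ≫ W.hom)
  let τ : T ⟶ W := Over.homMk τ₀ rfl
  have : IsAffine T.left := ‹IsAffine T₀›
  let f := (yon S).map τ ≫ j
  have := mono_of_isOpenImmersion hj
  have hsplit : ∀ O : V.left.Opens, IsAffineOpen O → ∀ (D : Over S) (dT : D ⟶ T)
      (d : D ⟶ Over.mk (O.ι ≫ V.hom)), IsPullback ((yon S).map dT) ((yon S).map d) f
        ((yon S).map (Over.homMk O.ι rfl : Over.mk (O.ι ≫ V.hom) ⟶ V) ≫ r) →
      D.left.IsSeparated → CompactSpace ↥D.left → Etale dT.left →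
      ∀ z : ↥D.left, ∃ N : D.left.Opens, IsClosed (N : Set ↥D.left) ∧ z ∈ N ∧ Mono (N.ι ≫ dT.left) := by
    intro O hO D dT d sqD _ _ _ z
    let ιO : Over.mk (O.ι ≫ V.hom) ⟶ V := Over.homMk O.ι rfl
    obtain ⟨dE, hdE⟩ := (yon S).map_surjective (sqE.lift ((yon S).map (d ≫ ιO)) ((yon S).map (dT ≫ τ)) (by
      rw [Functor.map_comp, Functor.map_comp, Category.assoc, Category.assoc]
      exact sqD.w.symm))
    have h1 : dE ≫ π₁ = d ≫ ιO := (yon S).map_injective (by rw [Functor.map_comp, hdE, sqE.lift_fst])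
    have h2 : dE ≫ π₂ = dT ≫ τ := (yon S).map_injective (by rw [Functor.map_comp, hdE, sqE.lift_snd])
    obtain ⟨N, hN, hzN, hm⟩ := hsp D.left dE.left dT.left (congrArg CommaMorphism.left h2) z
    refine ⟨N, hN, hzN, ⟨fun {W'} a c hac => ?_⟩⟩
    let A : Over.mk ((a ≫ N.ι) ≫ D.hom) ⟶ D := Over.homMk (a ≫ N.ι) rfl
    let C : Over.mk ((a ≫ N.ι) ≫ D.hom) ⟶ D := Over.homMk (c ≫ N.ι) (by
      change (c ≫ N.ι) ≫ D.hom = (a ≫ N.ι) ≫ D.hom
      rw [← Over.w dT]
      simp only [Category.assoc]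
      simpa only [Category.assoc] using congrArg (fun m => m ≫ T.hom) hac.symm)
    have eT : A ≫ dT = C ≫ dT := by
      ext1
      simpa [A, C] using hac
    have eE : A ≫ dE = C ≫ dE := by
      ext1
      simpa [A, C] using hm W' a c hac
    have : Mono ιO := by
      have : Mono ιO.left := inferInstanceAs (Mono O.ι)
      exact Over.mono_of_mono_left ιO
    have ed : A ≫ d = C ≫ d := by
      apply (cancel_mono ιO).1
      exact (Category.assoc _ _ _).trans ((congrArg (A ≫ ·) h1.symm).trans ((Category.assoc _ _ _).symm.trans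
        ((congrArg (· ≫ π₁) eE).trans ((Category.assoc _ _ _).trans ((congrArg (C ≫ ·) h1).trans
          (Category.assoc _ _ _).symm)))))
    have hAC : A = C := (yon S).map_injective (sqD.hom_ext
      (by rw [← Functor.map_comp, ← Functor.map_comp, eT])
      (by rw [← Functor.map_comp, ← Functor.map_comp, ed]))
    exact (cancel_mono N.ι).1 (congrArg CommaMorphism.left hAC)
  obtain ⟨Y, g, f', hn, hgi, hlift⟩ := SchCover.exists_scheme_of_split X hqs f r hr hrs hsplit
  -- over `W` the cover is `T`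
  obtain ⟨P₁, c, ν₁, sX⟩ := exists_pullback_yon hgi.1 j
  have sF : IsPullback (𝟙 _) ((yon S).map τ) f j := by
    have h1 : IsPullback (𝟙 ((yon S).obj T)) ((yon S).map τ) ((yon S).map τ) (𝟙 _) := IsPullback.of_id_fst
    have h2 : IsPullback (𝟙 _) (𝟙 _) j j := IsKernelPair.id_of_mono j
    simpa using h1.paste_vert h2
  have hw : f' ≫ g = (yon S).map τ ≫ j := hn.1
  let f₁' : (yon S).obj T ⟶ (yon S).obj P₁ := sX.lift f' ((yon S).map τ) hw
  have hW' : IsAlgSpace ((yon S).obj W) := IsAlgSpace.yon_obj W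
  have hsm : LocP @Smooth j := locP_smooth_of_etale
    (repWith_mono (fun g (hg : IsOpenImmersion g) => (inferInstance : Etale g)) hj)
  have hn₁ := (hn.baseChange X.property hW' hsm (f₁' := f₁') sF sX (sX.lift_snd f' _ hw)
    ((sX.lift_fst f' _ hw).trans (Category.id_comp _).symm)).relNorm hW' (IsAlgSpace.yon_obj P₁)
  have hτ : IsIntegralMor ((yon S).map τ) :=
    (Groth.Agent.AlgSpD.isIntegralMor_iff _).2 ((repWith_yon_map_iff _ τ).2 (inferInstanceAs (IsIntegralHom τ₀)))
  have hnT : IsRelNormalization ((yon S).map τ) ((yon S).map τ) (𝟙 _) :=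
    ⟨Category.id_comp _, hτ, fun Z _ π g _ hg => ⟨g, ⟨Category.id_comp _, hg⟩, fun h hh =>
      (Category.id_comp h).symm.trans hh.1⟩⟩
  obtain ⟨ε, -, hε⟩ := relNorm_iso hn₁ (IsAlgSpace.yon_obj P₁) (IsAlgSpace.yon_obj T) hnT
  refine ⟨Y, g, W, j, hgi, ?_, hj, hW, hjd, fun P fst snd sq => ?_, fun y => ?_⟩
  · refine (repWith_surjective_iff g hgi.1).2 fun x => ?_
    have hcl := SchCover.isClosed_range_of_integral X g hn.2.1
    suffices h : Set.range (Points.map g) = Set.univ from h.ge (Set.mem_univ x)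
    refine Set.eq_univ_of_univ_subset ?_
    rw [← hjd.closure_eq]
    refine closure_minimal ?_ hcl
    rintro _ ⟨w, rfl⟩
    obtain ⟨t, rfl⟩ := τ₀.surjective w
    refine ⟨Points.ofPt f' t, ?_⟩
    rw [Points.map_ofPt, hn.1]
    exact ofPt_map_comp τ j t
  · have hfe : RepWith @IsFinite ((yon S).map τ) ∧ RepWith @Etale ((yon S).map τ) :=
      ⟨(repWith_yon_map_iff _ τ).2 hτf, (repWith_yon_map_iff _ τ).2 hτe⟩
    have e : snd = ((sq.isoIsPullback _ _ sX).trans ε).hom ≫ (yon S).map τ := by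
      rw [Iso.trans_hom, Category.assoc, hε, IsPullback.isoIsPullback_hom_snd]
    rw [e]
    exact ⟨(MorphismProperty.cancel_left_of_respectsIso _ _ _).2 hfe.1,
      (MorphismProperty.cancel_left_of_respectsIso _ _ _).2 hfe.2⟩
  · obtain ⟨W', k, hy, hk⟩ := hlift y
    exact ⟨W', hy, k ≫ e₀, by rw [Functor.map_comp, Category.assoc]; exact hk⟩

end Groth.Agent.AlgSpB.GenEtCover
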